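import Cfsg.Agent.Lib.ONGroup.Simple

/-!
# Certified subgroups of the presented O'Nan group

Words in letters standing for given words; equalities are checked on three rows.
-/

set_option autoImplicit false
set_option linter.all false

noncomputable section

namespace Cfsg.Agent.ONSub

open Cfsg.Spor Cfsg.Agent.InvCoset Cfsg.Agent.ONGroup

/-- The values of letters given by words. -/
def sub3 (L : List (List ℕ)) (x : ℕ) : ON := prodE let8 (lnth L x)

/-- Substitution. -/
def expand (L : List (List ℕ)) : List ℕ → List ℕ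
  | [] => []
  | y :: w => lnth L y ++ expand L w

theorem prodE_expand (L : List (List ℕ)) : ∀ w : List ℕ, prodE let8 (expand L w) = prodE (sub3 L) w
  | [] => rfl
  | y :: w => by rw [expand, prodE_append, prodE, prodE_expand L w]; rfl

/-- Two words give one element. -/
def sameChk (u v : List ℕ) : Bool := inRange 8 v && fixesThree (u ++ invW ONTable.iv v)

theorem same_spec {u v : List ℕ} (h : sameChk u v = true) : prodE let8 u = prodE let8 v := by
  simp only [sameChk, Bool.and_eq_true] at h
  have h' := word_one h.2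
  rw [prodE_append, prodE_invW let8_paired v (inRange_spec h.1), mul_inv_eq_one] at h'
  exact h'

/-- Equality of two words in the given letters. -/
def sameIn (L : List (List ℕ)) (u v : List ℕ) : Bool := sameChk (expand L u) (expand L v)

theorem sameIn_spec {L : List (List ℕ)} {u v : List ℕ} (h : sameIn L u v = true) :
    prodE (sub3 L) u = prodE (sub3 L) v := by
  rw [← prodE_expand, ← prodE_expand]; exact same_spec h

/-- All the given words are trivial. -/
def trivIn (L : List (List ℕ)) : List (List ℕ) → Bool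
  | [] => true
  | w :: l => sameIn L w [] && trivIn L l

theorem trivIn_spec {L : List (List ℕ)} : ∀ {l : List (List ℕ)}, trivIn L l = true →
    ∀ w ∈ l, prodE (sub3 L) w = 1
  | [], _, w, hw => by simp at hw
  | v :: l, h, w, hw => by
    simp only [trivIn, Bool.and_eq_true] at h
    rcases List.mem_cons.mp hw with rfl | hw
    · exact sameIn_spec h.1
    · exact trivIn_spec h.2 w hw

def pairedChk (L : List (List ℕ)) (iv : ℕ) : ℕ → Bool
  | 0 => true
  | x + 1 => sameIn L [x, ivL iv x] [] && pairedChk L iv x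

theorem pairedChk_spec {L : List (List ℕ)} {iv : ℕ} : ∀ K, pairedChk L iv K = true →
    ∀ x < K, sub3 L (ivL iv x) = (sub3 L x)⁻¹
  | 0, _, x, hx => absurd hx (by omega)
  | K + 1, h, x, hx => by
    simp only [pairedChk, Bool.and_eq_true] at h
    rcases Nat.lt_succ_iff_lt_or_eq.mp hx with e | rfl
    · exact pairedChk_spec K h.2 x e
    · have := sameIn_spec h.1
      simp only [prodE, mul_one] at this
      exact (inv_eq_of_mul_eq_one_right this).symm

theorem prodE_repeat {G : Type*} [Group G] (e : ℕ → G) (u : List ℕ) :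
    ∀ k : ℕ, prodE e (List.replicate k u).flatten = prodE e u ^ k
  | 0 => by rw [pow_zero]; rfl
  | k + 1 => by rw [List.replicate_succ, List.flatten_cons, prodE_append, prodE_repeat e u k, pow_succ']

/-- Loops which equal listed words. -/
def powersChk (L pw : List (List ℕ)) : List (ℕ × ℕ × List ℕ) → List ℕ → Bool
  | [], _ => true
  | s :: l, k :: ks => Nat.blt k pw.length && sameIn L s.2.2 (lnth pw k) && powersChk L pw l ks
  | _ :: _, [] => false

/-- The listed words are the powers of one word. -/
def chainPow (L : List (List ℕ)) (x : List ℕ) : List (List ℕ) → Bool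
  | [] => true
  | [_] => true
  | u :: v :: l => sameIn L (x ++ u) v && chainPow L x (v :: l)

theorem chainPow_spec {L : List (List ℕ)} {x : List ℕ} : ∀ {l : List (List ℕ)} {u : List ℕ},
    chainPow L x (u :: l) = true → prodE (sub3 L) u ∈ Subgroup.zpowers (prodE (sub3 L) x) →
    ∀ w ∈ u :: l, prodE (sub3 L) w ∈ Subgroup.zpowers (prodE (sub3 L) x)
  | [], u, _, hu, w, hw => by
    rw [List.mem_singleton] at hw; exact hw ▸ hu
  | v :: l, u, h, hu, w, hw => by
    simp only [chainPow, Bool.and_eq_true] at h
    rcases List.mem_cons.mp hw with rfl | hw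
    · exact hu
    · refine chainPow_spec h.2 ?_ w hw
      rw [← sameIn_spec h.1, prodE_append]
      exact mul_mem (Subgroup.mem_zpowers _) hu

theorem lnth_get : ∀ {l : List (List ℕ)} {i : ℕ} (h : i < l.length), lnth l i = l[i]
  | [], i, h => by simp at h
  | a :: l, 0, _ => rfl
  | a :: l, i + 1, h => by
    show lnth l i = _
    rw [lnth_get (l := l) (by simpa using h)]
    rfl

theorem lnth_mem' {l : List (List ℕ)} {k : ℕ} (h : k < l.length) : lnth l k ∈ l := by
  rw [lnth_get h]
  exact List.getElem_mem h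

theorem powersChk_spec {L pw : List (List ℕ)} {S : Subgroup ON} (hpw : ∀ w ∈ pw, prodE (sub3 L) w ∈ S) :
    ∀ {l : List (ℕ × ℕ × List ℕ)} {ks : List ℕ}, powersChk L pw l ks = true →
      ∀ s ∈ l, prodE (sub3 L) s.2.2 ∈ S
  | [], _, _, s, hs => by simp at hs
  | t :: l, [], h, _, _ => by simp [powersChk] at h
  | t :: l, k :: ks, h, s, hs => by
    simp only [powersChk, Bool.and_eq_true] at h
    rcases List.mem_cons.mp hs with rfl | hs
    · rw [sameIn_spec h.1.2]
      exact hpw _ (lnth_mem' (by simpa [Nat.blt] using h.1.1))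
    · exact powersChk_spec hpw h.2 s hs

theorem mem_span {L : List (List ℕ)} {K : ℕ} {w : List ℕ} (hw : inRange K w = true) :
    prodE (sub3 L) w ∈ spanL (sub3 L) (List.range K) := by
  have h := inRange_spec hw
  clear hw
  induction w with
  | nil => exact one_mem _
  | cons y w ih =>
    exact mul_mem (mem_spanL _ (List.mem_range.mpr (h y List.mem_cons_self)))
      (ih fun z hz => h z (List.mem_cons_of_mem _ hz))

/-- Upper bound: a table of the cosets of a cyclic subgroup. -/
theorem span_small {D : Tab} {seeds : List (ℕ × ℕ × List ℕ)} {W : List (List ℕ)} (hD : D.Certified seeds W)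
    (L : List (List ℕ)) (hp : pairedChk L D.iv D.K = true) (hW : trivIn L W = true) (x : List ℕ)
    (hx : inRange D.K x = true) {big : ℕ} (hbig : 0 < big)
    (hord : sameIn L (List.replicate big x).flatten [] = true)
    (hseeds : ∀ s ∈ seeds, prodE (sub3 L) s.2.2 ∈ Subgroup.zpowers (prodE (sub3 L) x)) :
    Small (spanL (sub3 L) (List.range D.K)) (D.n * big) := by
  refine Small.step hD (sub3 L) ⟨fun y hy => (ivChk_spec _ hD.inverse y hy).1, pairedChk_spec _ hp⟩
    (trivIn_spec hW) (sub := Subgroup.zpowers (prodE (sub3 L) x)) ?_ ?_ hseeds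
  · have h1 : prodE (sub3 L) x ^ big = 1 := by rw [← prodE_repeat]; exact sameIn_spec hord
    exact ⟨inferInstance, by rw [Nat.card_zpowers]; exact orderOf_le_of_pow_eq_one hbig h1⟩
  · rw [Subgroup.zpowers_le]
    exact mem_span hx

def rowProducts (L : List (List ℕ)) (V : List (List ℕ)) (v : List ℕ) : List (List ℕ) → List ℕ → Bool
  | [], [] => true
  | w :: l, k :: ks => Nat.blt k V.length && sameIn L (v ++ w) (lnth V k) && rowProducts L V v l ks
  | _, _ => false

theorem rowProducts_spec {L V : List (List ℕ)} {v : List ℕ} :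
    ∀ {l : List (List ℕ)} {ks : List ℕ}, rowProducts L V v l ks = true →
      ∀ w ∈ l, ∃ u ∈ V, prodE (sub3 L) u = prodE (sub3 L) v * prodE (sub3 L) w
  | [], _, _, w, hw => by simp at hw
  | a :: l, [], h, _, _ => by simp [rowProducts] at h
  | a :: l, k :: ks, h, w, hw => by
    simp only [rowProducts, Bool.and_eq_true] at h
    obtain ⟨⟨hk, hs⟩, hr⟩ := h
    rcases List.mem_cons.mp hw with rfl | hw
    · refine ⟨_, lnth_mem' (by simpa [Nat.blt] using hk), ?_⟩
      rw [← sameIn_spec hs, prodE_append]
    · exact rowProducts_spec hr w hw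

/-- A multiplication table on listed words. -/
def tableChk (L : List (List ℕ)) (V : List (List ℕ)) : List (List ℕ) → List (List ℕ) → Bool
  | [], [] => true
  | v :: l, r :: rs => rowProducts L V v V r && tableChk L V l rs
  | _, _ => false

theorem tableChk_spec {L V : List (List ℕ)} :
    ∀ {l rs : List (List ℕ)}, tableChk L V l rs = true →
      ∀ v ∈ l, ∀ w ∈ V, ∃ u ∈ V, prodE (sub3 L) u = prodE (sub3 L) v * prodE (sub3 L) w
  | [], _, _, v, hv => by simp at hv
  | a :: l, [], h, _, _ => by simp [tableChk] at h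
  | a :: l, r :: rs, h, v, hv => by
    simp only [tableChk, Bool.and_eq_true] at h
    rcases List.mem_cons.mp hv with rfl | hv
    · exact rowProducts_spec h.1
    · exact tableChk_spec h.2 v hv

/-- The images of three rows under a word. -/
def keyOf (L : List (List ℕ)) (w : List ℕ) : List ℕ :=
  [ONTable.table.runW (expand L w) 0, ONTable.table.runW (expand L w) 3, ONTable.table.runW (expand L w) 113129]

def keysDistinct : List (List ℕ) → Bool
  | [] => true
  | a :: l => !lmem a l && keysDistinct l

theorem lmem_of_mem {a : List ℕ} : ∀ {l : List (List ℕ)}, a ∈ l → lmem a l = true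
  | [], h => by simp at h
  | b :: l, h => by
    simp only [lmem, Bool.or_eq_true]
    rcases List.mem_cons.mp h with rfl | h
    · left
      induction a with
      | nil => rfl
      | cons y w ih =>
        show ((Nat.beq y y).and (lbeq w w)) = true
        simp [ih]
    · exact Or.inr (lmem_of_mem h)

theorem keysDistinct_spec : ∀ {l : List (List ℕ)}, keysDistinct l = true → l.Nodup
  | [], _ => List.nodup_nil
  | a :: l, h => by
    simp only [keysDistinct, Bool.and_eq_true, Bool.not_eq_true'] at h
    exact List.nodup_cons.mpr ⟨fun hm => by rw [lmem_of_mem hm] at h; simp at h, keysDistinct_spec h.2⟩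

theorem key_value {L : List (List ℕ)} {w : List ℕ} (hw : inRange 8 (expand L w) = true) :
    keyOf L w = [((act122760 (prodE (sub3 L) w)⁻¹ row0 : Row) : ℕ),
      ((act122760 (prodE (sub3 L) w)⁻¹ row1 : Row) : ℕ), ((act122760 (prodE (sub3 L) w)⁻¹ row2 : Row) : ℕ)] := by
  have hr : ∀ y ∈ expand L w, y < ONTable.table.K := inRange_spec (K := 8) hw
  have key : ∀ c : Row, ((act122760 (prodE (sub3 L) w)⁻¹ c : Row) : ℕ) = ONTable.table.runW (expand L w) c := by
    intro c
    rw [map_inv, ← prodE_expand, map_prodE_permE certified let8 act122760 act_letter _ hr,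
      ← Equiv.Perm.smul_def, ← actW_eq]
    exact actW_permE certified _ hr c
  rw [key, key, key]
  rfl

/-- What is checked for a small subgroup. -/
def groupChk (L : List (List ℕ)) (K : ℕ) (V rs : List (List ℕ)) : Bool :=
  inRange K V.flatten && lmem [] V && tableChk L V V rs && keysDistinct (V.map (keyOf L)) &&
    inRange 8 (expand L V.flatten)

/-- Listed words forming a group. -/
theorem group_of_list {L V rs : List (List ℕ)} {K : ℕ} (h : groupChk L K V rs = true) :
    ∃ P : Subgroup ON, P ≤ spanL (sub3 L) (List.range K) ∧ Nat.card P = V.length ∧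
      ∀ a ∈ P, ∃ v ∈ V, prodE (sub3 L) v = a := by
  classical
  simp only [groupChk, Bool.and_eq_true] at h
  obtain ⟨⟨⟨⟨hK, h1⟩, ht⟩, hd⟩, h8⟩ := h
  let S : Finset ON := (V.map (prodE (sub3 L))).toFinset
  have hS : ∀ a, a ∈ S ↔ ∃ v ∈ V, prodE (sub3 L) v = a := fun a => by
    simp only [S, List.mem_toFinset, List.mem_map]
  let M : Submonoid ON :=
    { carrier := (S : Set ON)
      one_mem' := (hS 1).mpr ⟨[], lmem_spec h1, rfl⟩
      mul_mem' := fun {a b} ha hb => by
        obtain ⟨v, hv, rfl⟩ := (hS a).mp ha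
        obtain ⟨w, hw, rfl⟩ := (hS b).mp hb
        obtain ⟨u, hu, he⟩ := tableChk_spec ht v hv w hw
        exact (hS _).mpr ⟨u, hu, he⟩ }
  let P : Subgroup ON :=
    { M with
      inv_mem' := fun {a} ha => by
        have hp : a⁻¹ = a ^ (orderOf a - 1) := by
          apply inv_eq_of_mul_eq_one_right
          rw [← pow_succ', Nat.sub_add_cancel (orderOf_pos a), pow_orderOf_eq_one]
        show a⁻¹ ∈ M
        rw [hp]
        exact M.pow_mem ha _ }
  refine ⟨P, fun a ha => ?_, ?_, fun a ha => (hS a).mp ha⟩
  · obtain ⟨v, hv, rfl⟩ := (hS a).mp ha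
    refine mem_span ?_
    have := inRange_spec hK
    clear * - this hv
    suffices ∀ w : List ℕ, (∀ y ∈ w, y < K) → inRange K w = true from
      this v fun y hy => ‹∀ y ∈ V.flatten, y < K› y (List.mem_flatten.mpr ⟨v, hv, hy⟩)
    intro w
    induction w with
    | nil => intro _; rfl
    | cons y w ih =>
      intro hy
      simp only [inRange, Bool.and_eq_true]
      exact ⟨by simpa [Nat.blt] using hy y List.mem_cons_self, ih fun z hz => hy z (List.mem_cons_of_mem _ hz)⟩
  · have hdist := keysDistinct_spec hd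
    show Nat.card S = V.length
    rw [Nat.card_eq_finsetCard, List.toFinset_card_of_nodup, List.length_map]
    refine hdist.of_map _ |>.map_on ?_
    intro v hv w hw hvw
    refine List.inj_on_of_nodup_map hdist hv hw ?_
    have hexp : ∀ (A B : List ℕ), expand L (A ++ B) = expand L A ++ expand L B := by
      intro A B
      induction A with
      | nil => rfl
      | cons y A ih => rw [List.cons_append, expand, expand, ih, List.append_assoc]
    have hin : ∀ v ∈ V, inRange 8 (expand L v) = true := by
      intro v hv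
      have hall : ∀ y ∈ expand L v, y < 8 := by
        intro y hy
        refine inRange_spec h8 y ?_
        clear * - hexp hv hy
        induction V with
        | nil => simp at hv
        | cons a V ih =>
          rw [List.flatten_cons, hexp, List.mem_append]
          rcases List.mem_cons.mp hv with rfl | hv
          · exact Or.inl hy
          · exact Or.inr (ih hv)
      revert hall
      generalize expand L v = u
      intro hall
      clear * - hall
      induction u with
      | nil => rfl
      | cons y w ih =>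
        simp only [inRange, Bool.and_eq_true]
        exact ⟨by simpa [Nat.blt] using hall y List.mem_cons_self, ih fun z hz => hall z (List.mem_cons_of_mem _ hz)⟩
    rw [key_value (hin v hv), key_value (hin w hw), hvw]

/-- A word as a product of conjugates of `v`. -/
def asConj (v : List ℕ) (iv : ℕ) : List (List ℕ) → List ℕ
  | [] => []
  | c :: cs => c ++ (v ++ (invW iv c ++ asConj v iv cs))

/-- The generators are products of conjugates of each listed word. -/
def spanChkL (L : List (List ℕ)) (K iv : ℕ) (gens : List ℕ) : List (List ℕ × List (List (List ℕ))) → Bool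
  | [] => true
  | p :: l => gensChk gens p.2 p.1 && spanChkL L K iv gens l
where
  gensChk : List ℕ → List (List (List ℕ)) → List ℕ → Bool
    | [], _, _ => true
    | y :: gs, cs :: css, v => inRange K cs.flatten && sameIn L (asConj v iv cs) [y] && gensChk gs css v
    | _ :: _, [], _ => false

theorem gensChk_spec {L : List (List ℕ)} {K iv : ℕ} :
    ∀ {gs : List ℕ} {css : List (List (List ℕ))} {v : List ℕ}, spanChkL.gensChk L K iv gs css v = true →
      ∀ y ∈ gs, ∃ cs : List (List ℕ), (∀ c ∈ cs, ∀ z ∈ c, z < K) ∧ prodE (sub3 L) (asConj v iv cs) = sub3 L y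
  | [], _, _, _, y, hy => by simp at hy
  | a :: gs, [], _, h, _, _ => by simp [spanChkL.gensChk] at h
  | a :: gs, cs :: css, v, h, y, hy => by
    simp only [spanChkL.gensChk, Bool.and_eq_true] at h
    rcases List.mem_cons.mp hy with rfl | hy
    · refine ⟨cs, fun c hc z hz => inRange_spec h.1.1 z (List.mem_flatten.mpr ⟨c, hc, hz⟩), ?_⟩
      rw [sameIn_spec h.1.2]; simp [prodE]
    · exact gensChk_spec h.2 y hy

theorem spanChkL_spec {L : List (List ℕ)} {K iv : ℕ} {gens : List ℕ} :
    ∀ {l : List (List ℕ × List (List (List ℕ)))}, spanChkL L K iv gens l = true →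
      ∀ p ∈ l, spanChkL.gensChk L K iv gens p.2 p.1 = true
  | [], _, p, hp => by simp at hp
  | q :: l, h, p, hp => by
    simp only [spanChkL, Bool.and_eq_true] at h
    rcases List.mem_cons.mp hp with rfl | hp
    · exact h.1
    · exact spanChkL_spec h.2 p hp

/-- A subgroup normalised by the letters which contains `v` contains the generators. -/
theorem asConj_mem {L : List (List ℕ)} {K iv : ℕ} (hp : Paired K iv (sub3 L)) (M : Subgroup ON)
    (hM : ∀ a ∈ spanL (sub3 L) (List.range K), ∀ m ∈ M, a * m * a⁻¹ ∈ M) {v : List ℕ}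
    (hv : prodE (sub3 L) v ∈ M) : ∀ cs : List (List ℕ), (∀ c ∈ cs, ∀ z ∈ c, z < K) →
      prodE (sub3 L) (asConj v iv cs) ∈ M
  | [], _ => one_mem M
  | c :: cs, h => by
    rw [asConj, prodE_append, prodE_append, prodE_append, prodE_invW hp c (h c List.mem_cons_self), ← mul_assoc,
      ← mul_assoc]
    refine mul_mem (hM _ ?_ _ hv) (asConj_mem hp M hM hv cs fun d hd => h d (List.mem_cons_of_mem _ hd))
    have hc := h c List.mem_cons_self
    clear * - hc
    induction c with
    | nil => exact one_mem _
    | cons y w ih =>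
      exact mul_mem (mem_spanL _ (List.mem_range.mpr (hc y List.mem_cons_self)))
        (ih fun z hz => hc z (List.mem_cons_of_mem _ hz))

/-- A list of nontrivial-word witnesses covering a listed group. -/
def coverChk (L : List (List ℕ)) : List (List ℕ) → List (List ℕ × List (List (List ℕ))) → Bool
  | [], _ => true
  | v :: l, wit => (sameIn L v [] || (wit.map Prod.fst).any (fun u => lbeq u v)) && coverChk L l wit

theorem coverChk_spec {L : List (List ℕ)} {wit : List (List ℕ × List (List (List ℕ)))} :
    ∀ {l : List (List ℕ)}, coverChk L l wit = true → ∀ v ∈ l,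
      prodE (sub3 L) v = 1 ∨ ∃ p ∈ wit, p.1 = v
  | [], _, v, hv => by simp at hv
  | a :: l, h, v, hv => by
    simp only [coverChk, Bool.and_eq_true, Bool.or_eq_true] at h
    rcases List.mem_cons.mp hv with rfl | hv
    · rcases h.1 with h1 | h1
      · exact Or.inl (sameIn_spec h1)
      · rw [List.any_eq_true] at h1
        obtain ⟨u, hu, hb⟩ := h1
        obtain ⟨p, hp, rfl⟩ := List.mem_map.mp hu
        exact Or.inr ⟨p, hp, lbeq_iff hb⟩
    · exact coverChk_spec h.2 v hv

/-- The certificate that one prime does not prevent simplicity. -/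
structure PrimeCert (L : List (List ℕ)) (K : ℕ) (gens : List ℕ) (order : ℕ) (p : ℕ) : Prop where
  ex : ∃ P : Subgroup ON, P ≤ spanL (sub3 L) (List.range K) ∧ Nat.card P = p ^ order.factorization p ∧
    ∀ a ∈ P, a ≠ 1 → ∀ M : Subgroup ON, (∀ b ∈ spanL (sub3 L) (List.range K), ∀ m ∈ M, b * m * b⁻¹ ∈ M) →
      a ∈ M → ∀ y ∈ gens, sub3 L y ∈ M

theorem factor_exp {order p e m : ℕ} (hp : p.Prime) (hm : order = p ^ e * m) (hm' : ¬ p ∣ m) :
    order.factorization p = e := by
  have hm0 : m ≠ 0 := fun h => hm' (h ▸ dvd_zero p)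
  rw [hm, Nat.factorization_mul (pow_ne_zero _ hp.ne_zero) hm0, Finsupp.add_apply, hp.factorization_pow,
    Finsupp.single_eq_same, Nat.factorization_eq_zero_of_not_dvd hm', Nat.add_zero]

theorem primeCert_mk {L : List (List ℕ)} {K iv : ℕ} {gens : List ℕ} {order p : ℕ} (V rs : List (List ℕ))
    (wit : List (List ℕ × List (List (List ℕ)))) (e : ℕ) (m : ℕ) (hp : p.Prime) (hm : order = p ^ e * m)
    (hm' : ¬ p ∣ m) (hpair : Paired K iv (sub3 L)) (h1 : groupChk L K V rs = true)
    (h2 : spanChkL L K iv gens wit = true) (h3 : coverChk L V wit = true) (h4 : V.length = p ^ e) :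
    PrimeCert L K gens order p := by
  obtain ⟨P, hle, hcard, hmem⟩ := group_of_list h1
  refine ⟨P, hle, by rw [hcard, h4, factor_exp hp hm hm'], fun a ha hne M hM haM y hy => ?_⟩
  obtain ⟨v, hv, rfl⟩ := hmem a ha
  rcases coverChk_spec h3 v hv with h' | ⟨w, hw, rfl⟩
  · exact absurd h' hne
  obtain ⟨cs, hcs, he⟩ := gensChk_spec (spanChkL_spec h2 w hw) y hy
  rw [← he]
  exact asConj_mem hpair M hM haM cs hcs

/-- A prime dividing the order once. -/
theorem primeCert_cyclic {L : List (List ℕ)} {K iv : ℕ} {gens : List ℕ} {order p : ℕ} (v : List ℕ)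
    (css : List (List (List ℕ))) (m : ℕ) (hp : p.Prime) (hm : order = p ^ 1 * m)
    (hm' : ¬ p ∣ m) (hpair : Paired K iv (sub3 L)) (hv : inRange K v = true)
    (hpow : sameIn L (List.replicate p v).flatten [] = true)
    (hne : Nat.beq (ONTable.table.runW (expand L v) 0) 0 = false) (h8 : inRange 8 (expand L v) = true)
    (h2 : spanChkL.gensChk L K iv gens css v = true) : PrimeCert L K gens order p := by
  haveI : Fact p.Prime := ⟨hp⟩
  set u := prodE (sub3 L) v with hu
  have hup : u ^ p = 1 := by rw [hu, ← prodE_repeat]; exact sameIn_spec hpow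
  have hu1 : u ≠ 1 := by
    intro h
    have hk := key_value (L := L) (w := v) h8
    rw [← hu, h, inv_one, map_one] at hk
    have h0 : ONTable.table.runW (expand L v) 0 = 0 := (List.cons.inj hk).1
    rw [h0] at hne
    simp at hne
  refine ⟨Subgroup.zpowers u, Subgroup.zpowers_le.mpr (mem_span hv), ?_, fun a ha hne' M hM haM y hy => ?_⟩
  · rw [Nat.card_zpowers, orderOf_eq_prime hup hu1, factor_exp hp hm hm', pow_one]
  obtain ⟨cs, hcs, he⟩ := gensChk_spec h2 y hy
  rw [← he]
  refine asConj_mem hpair M hM (?_ : u ∈ M) cs hcs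
  have hc : Nat.card (Subgroup.zpowers u) = p := by rw [Nat.card_zpowers, orderOf_eq_prime hup hu1]
  have h := mem_zpowers_of_prime_card hc (g := (⟨a, ha⟩ : Subgroup.zpowers u))
    (g' := ⟨u, Subgroup.mem_zpowers u⟩) (fun h => hne' (congrArg Subtype.val h))
  obtain ⟨k, hk⟩ := Subgroup.mem_zpowers_iff.mp h
  have hk' : a ^ k = u := congrArg Subtype.val hk
  exact hk' ▸ zpow_mem haM k

/-- The order is determined by the bound and the small subgroups. -/
theorem card_eq {L : List (List ℕ)} {K : ℕ} {gens : List ℕ} {order : ℕ} (h0 : order ≠ 0)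
    (hs : Small (spanL (sub3 L) (List.range K)) order)
    (hP : ∀ p ∈ order.primeFactors, PrimeCert L K gens order p) :
    Nat.card (spanL (sub3 L) (List.range K)) = order := by
  haveI := hs.1
  refine le_antisymm hs.2 (Nat.le_of_dvd Nat.card_pos ?_)
  rw [← Nat.prod_factorization_pow_eq_self h0]
  show (∏ p ∈ order.factorization.support, p ^ order.factorization p) ∣ _
  rw [Nat.support_factorization]
  refine Finset.prod_dvd_of_isRelPrime (fun p hp q hq hpq => ?_) fun p hp => ?_
  · exact Nat.coprime_iff_isRelPrime.mp <| Nat.Coprime.pow _ _ ((Nat.coprime_primes (Nat.prime_of_mem_primeFactors hp)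
      (Nat.prime_of_mem_primeFactors hq)).mpr hpq)
  · obtain ⟨P, hPle, hPc, -⟩ := (hP p hp).ex
    rw [← hPc]
    exact Subgroup.card_dvd_of_le hPle

/-- Simplicity. -/
theorem span_simple {L : List (List ℕ)} {K : ℕ} {gens : List ℕ} {order : ℕ} (h1 : 1 < order)
    (hs : Small (spanL (sub3 L) (List.range K)) order)
    (hP : ∀ p ∈ order.primeFactors, PrimeCert L K gens order p)
    (hgens : ∀ x < K, sub3 L x ∈ spanL (sub3 L) gens) :
    IsSimpleGroup (spanL (sub3 L) (List.range K)) := by
  set T := spanL (sub3 L) (List.range K) with hT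
  have hcard := card_eq (by omega) hs hP
  haveI := hs.1
  haveI : Nontrivial T := Finite.one_lt_card_iff_nontrivial.mp (by rw [hcard]; exact h1)
  refine ⟨fun N hN => ?_⟩
  rcases eq_or_ne N ⊥ with h | h
  · exact Or.inl h
  right
  obtain ⟨p, hpp, hpN⟩ : ∃ p, p.Prime ∧ p ∣ Nat.card N :=
    Nat.exists_prime_and_dvd (by rw [ne_eq, Subgroup.card_eq_one]; exact h)
  haveI : Fact p.Prime := ⟨hpp⟩
  obtain ⟨a, ha⟩ := exists_prime_orderOf_dvd_card' p hpN
  have haT : orderOf (a : T) = p := by rw [Subgroup.orderOf_coe]; exact ha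
  obtain ⟨P, hPle, hlen, hgenP⟩ := (hP p (Nat.mem_primeFactors.mpr
    ⟨hpp, hcard ▸ hpN.trans (Subgroup.card_subgroup_dvd_card N), by omega⟩)).ex
  let PS : Sylow p T := Sylow.ofCard (P.subgroupOf T) (by
    rw [Nat.card_congr (Subgroup.subgroupOfEquivOfLe hPle).toEquiv, hlen, hcard])
  have hpg : IsPGroup p (Subgroup.zpowers (a : T)) :=
    IsPGroup.of_card (n := 1) (by rw [Nat.card_zpowers, haT, pow_one])
  obtain ⟨Q, hQ⟩ := hpg.exists_le_sylow
  obtain ⟨g, hg⟩ := MulAction.exists_smul_eq T Q PS
  have hmem : g * (a : T) * g⁻¹ ∈ (PS : Subgroup T) := by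
    rw [← hg, Sylow.coe_subgroup_smul]
    exact Subgroup.mem_smul_pointwise_iff_exists _ _ _ |>.mpr ⟨a, hQ (Subgroup.mem_zpowers _), rfl⟩
  have hne : g * (a : T) * g⁻¹ ≠ 1 := by
    intro he
    rw [conj_eq_one_iff] at he
    rw [he, orderOf_one] at haT
    exact hpp.one_lt.ne haT
  have hN' : g * (a : T) * g⁻¹ ∈ N := hN.conj_mem _ a.2 g
  have hM : ∀ b ∈ T, ∀ m ∈ N.map T.subtype, b * m * b⁻¹ ∈ N.map T.subtype := by
    rintro b hb _ ⟨m, hm, rfl⟩
    exact ⟨⟨b, hb⟩ * m * ⟨b, hb⟩⁻¹, hN.conj_mem m hm _, rfl⟩
  have hgen : ∀ y ∈ gens, sub3 L y ∈ N.map T.subtype :=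
    hgenP _ (Subgroup.mem_subgroupOf.mp hmem) (fun h => hne (Subtype.ext h)) _ hM ⟨_, hN', rfl⟩
  have hle : T ≤ N.map T.subtype := by
    refine (Subgroup.closure_le _).mpr ?_
    rintro _ ⟨x, hx, rfl⟩
    have hsp : spanL (sub3 L) gens ≤ N.map T.subtype := by
      refine (Subgroup.closure_le _).mpr ?_
      rintro _ ⟨y, hy, rfl⟩
      exact hgen y hy
    exact hsp (hgens x (List.mem_range.mp hx))
  rw [eq_top_iff]
  intro b _
  obtain ⟨m, hm, he⟩ := hle b.2
  exact (Subtype.ext he : m = b) ▸ hm

end Cfsg.Agent.ONSub
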