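import Cfsg.Agent.Lib.ONSub.Basic
import Cfsg.Agent.Lib.ONSub.M11Table

/-!
# A small simple subgroup of the presented O'Nan group
-/

set_option autoImplicit false
set_option maxHeartbeats 0
set_option maxRecDepth 100000

noncomputable section

namespace Cfsg.Agent.ONSub.M11

open Cfsg.Spor Cfsg.Agent.InvCoset Cfsg.Agent.ONGroup

def gensW : List (List ℕ) := [[4, 2, 3, 1, 5, 6, 2, 6, 3, 7, 1, 4, 6, 3, 7, 2, 7, 5, 1, 3, 2, 4],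
  [1, 7, 1, 0, 5, 6, 5, 0, 1, 6, 1],
  [1, 7, 1, 0, 5, 7, 5, 0, 1, 6, 1]]

theorem paired : pairedChk gensW table.iv table.K = true := by decide +kernel

theorem relsOK : trivIn gensW rels = true := by decide +kernel

theorem xRange : inRange table.K [0, 1] = true := by decide +kernel

theorem xOrder : sameIn gensW (List.replicate 11 [0, 1]).flatten [] = true := by decide +kernel

def pw : List (List ℕ) := [[],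
  [0, 1],
  [0, 1, 0, 1],
  [0, 1, 0, 1, 0, 1],
  [0, 1, 0, 1, 0, 1, 0, 1],
  [0, 1, 0, 1, 0, 1, 0, 1, 0, 1],
  [2, 0, 2, 0, 2, 0, 2, 0, 2, 0],
  [2, 0, 2, 0, 2, 0, 2, 0],
  [2, 0, 2, 0, 2, 0],
  [2, 0, 2, 0],
  [2, 0]]

theorem pwOK : chainPow gensW [0, 1] pw = true := by decide +kernel

theorem pwMem : ∀ w ∈ pw, prodE (sub3 gensW) w ∈ Subgroup.zpowers (prodE (sub3 gensW) [0, 1]) :=
  fun w hw => chainPow_spec pwOK (one_mem _) w hw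

def seeds0 : List (ℕ × ℕ × List ℕ) := [(0, 2, [2, 0])]

theorem powersOK0 : powersChk gensW pw seeds0 [10] = true := by decide +kernel

theorem seedsMem : ∀ s ∈ seeds, prodE (sub3 gensW) s.2.2 ∈ Subgroup.zpowers (prodE (sub3 gensW) [0, 1]) := by
  have h : seeds = seeds0 := rfl
  intro s hs
  rw [h] at hs
  exact powersChk_spec pwMem powersOK0 s hs

theorem pairedP : Paired 3 0x120 (sub3 gensW) :=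
  ⟨fun y hy => (ivChk_spec _ inverseOK y hy).1, pairedChk_spec _ paired⟩

def V2 : List (List ℕ) := [[],
  [0],
  [1, 1, 0, 1, 1, 0, 1, 1],
  [1, 0, 1, 0, 2, 0, 2],
  [1, 1, 0, 1, 0, 1, 0, 2, 0, 1],
  [0, 1, 1, 0, 1, 1, 0, 1, 1],
  [0, 1, 0, 1, 0, 2, 0, 2],
  [0, 1, 1, 0, 1, 0, 1, 0, 2, 0, 1],
  [1, 0, 1, 0, 2, 0, 2, 0],
  [1, 1, 0, 2, 0, 1, 0, 2, 0, 1],
  [2, 0, 1, 0, 2, 0, 2, 0, 1, 1, 0],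
  [2, 0, 1, 0, 2, 0, 1, 0, 1, 1],
  [0, 1, 0, 1, 0, 2, 0, 2, 0],
  [2, 0, 1, 0, 2, 0, 2, 0, 1, 1],
  [1, 1, 0, 2, 0, 1, 0, 2, 0, 1, 0],
  [0, 2, 0, 1, 0, 2, 0, 1, 0, 1, 1]]

def mul2 : List (List ℕ) := [[0, 1, 2, 3, 4, 5, 6, 7, 8, 9, 10, 11, 12, 13, 14, 15],
  [1, 0, 5, 6, 7, 2, 3, 4, 12, 13, 14, 15, 8, 9, 10, 11],
  [2, 5, 0, 8, 9, 1, 12, 13, 3, 4, 15, 14, 6, 7, 11, 10],
  [3, 8, 6, 0, 10, 12, 2, 15, 1, 14, 4, 13, 5, 11, 9, 7],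
  [4, 11, 10, 9, 5, 13, 15, 3, 14, 12, 1, 2, 7, 0, 6, 8],
  [5, 2, 1, 12, 13, 0, 8, 9, 6, 7, 11, 10, 3, 4, 15, 14],
  [6, 12, 3, 1, 14, 8, 5, 11, 0, 10, 7, 9, 2, 15, 13, 4],
  [7, 15, 14, 13, 2, 9, 11, 6, 10, 8, 0, 5, 4, 1, 3, 12],
  [8, 3, 12, 2, 15, 6, 0, 10, 5, 11, 9, 7, 1, 14, 4, 13],
  [9, 14, 15, 4, 1, 7, 10, 8, 11, 6, 5, 0, 13, 2, 12, 3],
  [10, 13, 4, 14, 12, 11, 7, 0, 9, 5, 8, 6, 15, 3, 2, 1],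
  [11, 4, 13, 15, 3, 10, 9, 5, 7, 0, 6, 8, 14, 12, 1, 2],
  [12, 6, 8, 5, 11, 3, 1, 14, 2, 15, 13, 4, 0, 10, 7, 9],
  [13, 10, 11, 7, 0, 4, 14, 12, 15, 3, 2, 1, 9, 5, 8, 6],
  [14, 9, 7, 10, 8, 15, 4, 1, 13, 2, 12, 3, 11, 6, 5, 0],
  [15, 7, 9, 11, 6, 14, 13, 2, 4, 1, 3, 12, 10, 8, 0, 5]]

def wit2 : List (List ℕ × List (List (List ℕ))) := [([0], [[[]], [[0, 1, 1, 0, 2, 0, 2, 0, 2, 0, 2], [0, 1, 0, 1, 0, 1, 0, 1, 1]]]),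
  ([1, 1, 0, 1, 1, 0, 1, 1], [[[1, 0, 1, 0, 2, 0, 2]], [[0, 1, 0, 2, 0, 1, 1, 0, 1], [0, 1, 0, 1, 1, 0, 1, 0, 2]]]),
  ([1, 0, 1, 0, 2, 0, 2], [[[2, 0, 2]], [[0, 1, 1, 0, 1, 0, 1, 0, 1], [0, 1, 0, 2, 0, 1, 0, 1]]]),
  ([1, 1, 0, 1, 0, 1, 0, 2, 0, 1], [[[1, 0, 1, 0, 1, 1, 0, 2], [1, 0, 1, 0, 1, 0, 1, 0, 2]], [[0, 2, 0, 2, 0, 2, 0, 1, 1, 0, 1, 0, 1, 0, 1, 0, 1]]]),
  ([0, 1, 1, 0, 1, 1, 0, 1, 1], [[[1, 1, 0, 1, 0, 1, 1, 0, 1, 1, 0, 1]], [[0, 1, 0, 2, 0, 1, 1, 0, 1], [0, 2, 0, 1, 0, 1, 1, 0, 1, 0, 2, 0, 1, 0, 1]]]),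
  ([0, 1, 0, 1, 0, 2, 0, 2], [[[2, 0, 1, 0, 2], [1, 0, 1, 0, 1, 1, 0, 1, 0, 1, 0]], [[0, 2, 0, 2, 0, 2, 0, 1, 1, 0, 1, 0, 1, 0, 1, 0, 2]]]),
  ([0, 1, 1, 0, 1, 0, 1, 0, 2, 0, 1], [[[1, 0, 1, 0, 1, 0, 1, 0, 2], [1, 1, 0, 1, 0, 2, 0]], [[0, 1, 0, 1, 0, 1, 0, 2], [0, 1, 0, 1, 1, 0, 1, 0, 2, 0]]]),
  ([1, 0, 1, 0, 2, 0, 2, 0], [[[2, 0, 1, 0, 2, 0], [1, 0, 1, 0, 1, 1, 0, 1, 0, 1]], [[0, 1, 0, 2, 0, 1, 0, 2, 0, 1, 0, 1, 0, 1, 1, 0, 1]]]),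
  ([1, 1, 0, 2, 0, 1, 0, 2, 0, 1], [[[1, 1, 0, 1, 0, 2], [1, 0, 1, 0, 1, 0, 1, 0, 2, 0]], [[0, 2, 0, 2, 0, 2, 0, 2, 0, 1], [0, 2]]]),
  ([2, 0, 1, 0, 2, 0, 2, 0, 1, 1, 0], [[[1, 1, 0, 1, 0, 2, 0], [1, 0, 1, 0, 1, 0, 1, 0, 2]], [[0, 2, 0, 1, 0, 1, 0, 2], [1, 0, 1, 0, 1]]]),
  ([2, 0, 1, 0, 2, 0, 1, 0, 1, 1], [[[2, 0, 1, 1, 0, 1], [1, 1, 0, 1, 0, 1, 0, 1, 0, 1]], [[0, 1, 0, 1, 0, 1, 0, 2, 0], [0, 1, 0, 1, 1, 0, 1, 0, 2]]]),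
  ([0, 1, 0, 1, 0, 2, 0, 2, 0], [[[2, 0, 2, 0]], [[0, 1, 0, 2, 0, 1, 0, 1, 0], [0, 2, 0, 1, 0, 1, 0, 1, 0, 1]]]),
  ([2, 0, 1, 0, 2, 0, 2, 0, 1, 1], [[[1, 0, 2, 0, 1, 1, 0, 1], [2, 0, 2, 0, 1, 1, 0, 1, 0]], [[0, 1, 0, 2, 0, 1, 0, 2, 0, 1, 0, 1, 0, 1, 1, 0, 2]]]),
  ([1, 1, 0, 2, 0, 1, 0, 2, 0, 1, 0], [[[2, 0, 1, 0, 1], [1, 0, 1, 1, 0, 1, 0, 1, 0, 1, 0, 2]], [[0, 1, 0, 2, 0, 1, 0, 2, 0, 1, 0, 1, 0, 1, 1, 0, 2, 0]]]),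
  ([0, 2, 0, 1, 0, 2, 0, 1, 0, 1, 1], [[[2, 0, 1, 0, 2], [1, 0, 1, 1, 0, 1, 0, 1, 0, 1, 0, 1]], [[0, 2, 0, 2, 0, 2, 0, 1, 1, 0, 1, 0, 1, 0, 1, 0, 1, 0]]])]

theorem group2 : groupChk gensW 3 V2 mul2 = true := by decide +kernel

theorem span2 : spanChkL gensW 3 0x120 [0, 1] wit2 = true := by decide +kernel

theorem cover2 : coverChk gensW V2 wit2 = true := by decide +kernel

theorem prime2 : PrimeCert gensW 3 [0, 1] 7920 2 :=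
  primeCert_mk V2 mul2 wit2 4 495 (by norm_num) (by norm_num) (by norm_num) pairedP group2 span2 cover2 rfl

def V3 : List (List ℕ) := [[],
  [0, 1, 1, 0, 1, 1],
  [0, 1, 0, 1, 0, 1, 0, 1, 1, 0, 1, 1, 0, 2, 0, 2, 0, 2],
  [1, 1, 0, 1, 1, 0],
  [0, 1, 0, 1, 0, 2, 0, 2, 0, 2, 0, 1, 0, 1, 0, 1, 0, 2, 0, 2],
  [1, 0, 1, 0, 1, 0, 1, 1, 0, 1, 1, 0, 2, 0, 2, 0, 2, 0],
  [0, 2, 0, 1, 0, 1, 0, 1, 1, 0, 1, 1, 0, 2, 0, 2, 0, 1],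
  [2, 0, 1, 0, 1, 0, 1, 1, 0, 1, 1, 0, 2, 0, 2, 0, 1, 0],
  [1, 0, 1, 0, 2, 0, 2, 0, 2, 0, 1, 0, 1, 0, 1, 0, 2, 0, 2, 0]]

def mul3 : List (List ℕ) := [[0, 1, 2, 3, 4, 5, 6, 7, 8],
  [1, 3, 4, 0, 6, 7, 2, 8, 5],
  [2, 4, 5, 6, 7, 0, 8, 1, 3],
  [3, 0, 6, 1, 2, 8, 4, 5, 7],
  [4, 6, 7, 2, 8, 1, 5, 3, 0],
  [5, 7, 0, 8, 1, 2, 3, 4, 6],
  [6, 2, 8, 4, 5, 3, 7, 0, 1],
  [7, 8, 1, 5, 3, 4, 0, 6, 2],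
  [8, 5, 3, 7, 0, 6, 1, 2, 4]]

def wit3 : List (List ℕ × List (List (List ℕ))) := [([0, 1, 1, 0, 1, 1], [[[1, 0, 1, 0, 1], [1, 0, 1, 0, 1, 0, 2, 0, 1, 1, 0, 1]], [[0, 1, 0, 1, 0, 1, 1, 0, 1, 0, 2], [1, 0, 1, 0, 2, 0, 2, 0, 1, 1, 0, 1]]]),
  ([0, 1, 0, 1, 0, 1, 0, 1, 1, 0, 1, 1, 0, 2, 0, 2, 0, 2], [[[2, 0, 2, 0, 2], [1, 1, 0, 1, 0, 1, 0, 2]], [[0, 2, 0, 2, 0, 2, 0, 1], [1, 0, 1, 1, 0, 1]]]),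
  ([1, 1, 0, 1, 1, 0], [[[1, 0, 1, 0, 2], [1, 0, 2, 0, 1, 0, 2, 0, 1, 1, 0, 1]], [[0, 1, 0, 1, 0, 1, 1, 0, 1, 0, 1], [1, 0, 1, 0, 2, 0, 2, 0, 1, 1, 0, 2]]]),
  ([0, 1, 0, 1, 0, 2, 0, 2, 0, 2, 0, 1, 0, 1, 0, 1, 0, 2, 0, 2], [[[2, 0, 2, 0, 1], [1, 1, 0, 1, 0, 1, 0, 1]], [[0, 2, 0, 2, 0, 2, 0, 2], [1, 0, 1, 1, 0, 2]]]),
  ([1, 0, 1, 0, 1, 0, 1, 1, 0, 1, 1, 0, 2, 0, 2, 0, 2, 0], [[[1, 0, 1, 1, 0, 2], [2, 0, 2, 0, 1, 0, 1]], [[0, 1, 0, 1, 0, 1], [0, 1, 1, 0, 1, 1, 0, 2, 0, 2]]]),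
  ([0, 2, 0, 1, 0, 1, 0, 1, 1, 0, 1, 1, 0, 2, 0, 2, 0, 1], [[[1, 0, 1, 0], [1, 1, 0, 1, 1, 0, 2, 0, 1]], [[0], [0, 1, 1, 0, 1, 1, 0, 1, 0]]]),
  ([2, 0, 1, 0, 1, 0, 1, 1, 0, 1, 1, 0, 2, 0, 2, 0, 1, 0], [[[1, 0, 1], [1, 1, 0, 1, 1, 0, 2, 0, 1, 0]], [[], [0, 1, 1, 0, 1, 1, 0, 1]]]),
  ([1, 0, 1, 0, 2, 0, 2, 0, 2, 0, 1, 0, 1, 0, 1, 0, 2, 0, 2, 0], [[[1, 0, 1, 1, 0, 1], [2, 0, 2, 0, 1, 0, 2]], [[0, 1, 0, 1, 0, 2], [0, 1, 1, 0, 1, 1, 0, 2, 0, 1]]])]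

theorem group3 : groupChk gensW 3 V3 mul3 = true := by decide +kernel

theorem span3 : spanChkL gensW 3 0x120 [0, 1] wit3 = true := by decide +kernel

theorem cover3 : coverChk gensW V3 wit3 = true := by decide +kernel

theorem prime3 : PrimeCert gensW 3 [0, 1] 7920 3 :=
  primeCert_mk V3 mul3 wit3 2 880 (by norm_num) (by norm_num) (by norm_num) pairedP group3 span3 cover3 rfl

theorem prime5 : PrimeCert gensW 3 [0, 1] 7920 5 :=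
  primeCert_cyclic (iv := 0x120) [0, 1, 0, 1, 1, 0, 2] [[[2, 0, 1, 0, 1], [1, 0, 1, 0, 1, 1]], [[0, 1, 1], [0, 1, 1, 0, 2, 0, 2, 0, 1, 0, 1, 1]]] 1584 (by norm_num) (by norm_num) (by norm_num) pairedP
    (by decide +kernel) (by decide +kernel) (by decide +kernel) (by decide +kernel) (by decide +kernel)

theorem prime11 : PrimeCert gensW 3 [0, 1] 7920 11 :=
  primeCert_cyclic (iv := 0x120) [2, 0, 2, 0, 2, 0] [[[1, 0, 2], [1, 0, 2, 0, 2]], [[], [0, 2, 0, 1, 1, 0, 2, 0, 2, 0, 1, 1, 0, 2, 0, 2]]] 720 (by norm_num) (by norm_num) (by norm_num) pairedP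
    (by decide +kernel) (by decide +kernel) (by decide +kernel) (by decide +kernel) (by decide +kernel)

/-- The subgroup. -/
def sub : Subgroup ON := spanL (sub3 gensW) (List.range 3)

theorem small : InvCoset.Small sub 7920 :=
  span_small certified gensW paired relsOK _ xRange (by norm_num) xOrder seedsMem

theorem primes : ∀ p ∈ Nat.primeFactors 7920, PrimeCert gensW 3 [0, 1] 7920 p := by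
  intro p hp
  have hpp := Nat.prime_of_mem_primeFactors hp
  have hd := Nat.dvd_of_mem_primeFactors hp
  have hmem : p ∈ [2, 3, 5, 11] := by
    have h : p ∣ 2 ^ 4 * 3 ^ 2 * 5 ^ 1 * 11 ^ 1 := by norm_num; exact hd
    simp only [hpp.dvd_mul, List.mem_cons, List.not_mem_nil, or_false] at h ⊢
    have he : ∀ {q k : ℕ}, q.Prime → p ∣ q ^ k → p = q := fun hq h =>
      (Nat.prime_dvd_prime_iff_eq hpp hq).mp (hpp.dvd_of_dvd_pow h)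
    rcases h with ((h | h) | h) | h
    · simp [he (by norm_num : Nat.Prime 2) h]
    · simp [he (by norm_num : Nat.Prime 3) h]
    · simp [he (by norm_num : Nat.Prime 5) h]
    · simp [he (by norm_num : Nat.Prime 11) h]
  simp only [List.mem_cons, List.not_mem_nil, or_false] at hmem
  rcases hmem with rfl | rfl | rfl | rfl
  · exact prime2
  · exact prime3
  · exact prime5
  · exact prime11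

theorem gens01 : ∀ x < 3, sub3 gensW x ∈ spanL (sub3 gensW) [0, 1] := by
  intro x hx
  interval_cases x
  · exact mem_spanL _ (by simp)
  · exact mem_spanL _ (by simp)
  · have h := pairedChk_spec _ paired 1 (by decide)
    rw [show ivL table.iv 1 = 2 from rfl] at h
    rw [h]
    exact inv_mem (mem_spanL _ (by simp))

theorem card_sub : Nat.card sub = 7920 := card_eq (by norm_num) small primes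

theorem simple_sub : IsSimpleGroup sub :=
  span_simple (by norm_num) small primes
    gens01

end Cfsg.Agent.ONSub.M11
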