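import Cfsg.Agent.Lib.ONSub.J1
import Cfsg.Agent.Lib.ONSub.M11

/-!
# The O'Nan group as a transitive permutation group of degree 122760
-/

set_option autoImplicit false
set_option linter.all false

noncomputable section

namespace Cfsg.Agent.ONSub

open Cfsg.Spor Cfsg.Agent.InvCoset Cfsg.Agent.ONGroup

/-- The permutation group. -/
def permON : Subgroup (Equiv.Perm (Fin 122760)) :=
  MonoidHom.range (G := ON) (act122760 : ON →* Equiv.Perm (Fin 122760))

/-- The presented group and the permutation group. -/
def equivON : ON ≃* permON :=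
  MonoidHom.ofInjective (f := (act122760 : ON →* Equiv.Perm (Fin 122760))) act_injective

theorem equivON_val (a : ON) : ((equivON a : permON) : Equiv.Perm (Fin 122760)) = act122760 a := rfl

theorem card_mapped (K : Subgroup ON) : Nat.card (K.map (equivON : ON →* permON)) = Nat.card K :=
  (Nat.card_congr (K.equivMapOfInjective (equivON : ON →* permON) equivON.injective).toEquiv).symm

theorem simple_mapped (K : Subgroup ON) (h : IsSimpleGroup K) :
    IsSimpleGroup (K.map (equivON : ON →* permON)) :=
  (K.equivMapOfInjective (equivON : ON →* permON) equivON.injective).symm.isSimpleGroup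

theorem move_row (c d : Row) : ∃ k : ON, act122760 k c = d := by
  obtain ⟨a, ha⟩ := act_transitive c
  obtain ⟨b, hb⟩ := act_transitive d
  refine ⟨b * a⁻¹, ?_⟩
  rw [map_mul, Equiv.Perm.mul_apply, map_inv, ← ha, Equiv.Perm.coe_inv, Equiv.symm_apply_apply, hb]

theorem perm122760 : ∃ H : Subgroup (Equiv.Perm (Fin 122760)), Cfsg.IsON H ∧
    MulAction.IsPretransitive H (Fin 122760) ∧
    Nat.card (MulAction.stabilizer H (0 : Fin 122760)) = 3753792 ∧ (∃ K : Subgroup H, Cfsg.IsJ1 K) ∧
    (∃ K : Subgroup H, Cfsg.IsM11 K) := by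
  have hrow : (0 : Fin 122760) = row0 := Fin.ext (by rfl)
  refine ⟨permON, ⟨?_, ?_⟩, ⟨fun c d => ?_⟩, ?_, ?_, ?_⟩
  · haveI := simple_ON
    exact equivON.symm.isSimpleGroup
  · rw [← Nat.card_congr equivON.toEquiv, card_ON]
  · obtain ⟨k, hk⟩ := move_row c d
    exact ⟨equivON k, hk⟩
  · refine (Nat.card_congr ?_).trans base_bound.1
    refine
      { toFun := fun k => ⟨equivON.symm k.1, ?_⟩
        invFun := fun a => ⟨equivON a.1, ?_⟩
        left_inv := fun k => Subtype.ext (equivON.apply_symm_apply _)
        right_inv := fun a => Subtype.ext (equivON.symm_apply_apply _) }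
    · have h : ((k.1 : permON) : Equiv.Perm (Fin 122760)) (0 : Fin 122760) = 0 := k.2
      rw [mem_hSub_iff, ← equivON_val, MulEquiv.apply_symm_apply, ← hrow]
      exact h
    · change ((equivON a.1 : permON) : Equiv.Perm (Fin 122760)) (0 : Fin 122760) = 0
      rw [hrow]
      exact (mem_hSub_iff _).mp a.2
  · exact ⟨J1.sub.map (equivON : ON →* permON), simple_mapped _ J1.simple_sub, (card_mapped _).trans J1.card_sub⟩
  · exact ⟨M11.sub.map (equivON : ON →* permON), simple_mapped _ M11.simple_sub, (card_mapped _).trans M11.card_sub⟩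

end Cfsg.Agent.ONSub
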